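import Mathlib
import Cfsg.Agent.Lib.Helper48.SpExist

set_option autoImplicit false

universe u

namespace Cfsg.Agent.Lib.Helper99.SP8

open Module LinearMap QuadraticMap Cfsg.Agent.Lib.Helper48

/-- `Q` is a quadratic form with nondegenerate polar form on a space of dimension `2c`, of plus type
(`ε = true`) or minus type (`ε = false`); the type is read off the number `N` of singular vectors:
`q N + q^c = q^(2c) + q^(c+1)` (plus), `q N + q^(c+1) = q^(2c) + q^c` (minus). -/
def IsTyp {F V : Type*} [Field F] [Fintype F] [AddCommGroup V] [Module F V]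
    (Q : QuadraticForm F V) (c : ℕ) (ε : Bool) : Prop :=
  finrank F V = 2 * c ∧ (∀ x, (∀ y, polar Q x y = 0) → x = 0) ∧
    (cond ε
      (Fintype.card F * Nat.card {v : V // Q v = 0} + Fintype.card F ^ c =
        Fintype.card F ^ (2 * c) + Fintype.card F ^ (c + 1))
      (Fintype.card F * Nat.card {v : V // Q v = 0} + Fintype.card F ^ (c + 1) =
        Fintype.card F ^ (2 * c) + Fintype.card F ^ c))

/-- some quadratic space of dimension `2c` and type `ε` has an isometry of exact order `K`. -/
def QT (F : Type u) [Field F] [Fintype F] (ε : Bool) (c K : ℕ) : Prop :=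
  ∃ (V : Type u) (_ : AddCommGroup V) (_ : Module F V) (_ : FiniteDimensional F V)
    (Q : QuadraticForm F V) (T : End F V),
    IsTyp Q c ε ∧ (∀ v, Q (T v) = Q v) ∧ ∀ j, T ^ j = 1 ↔ K ∣ j

/-- some quadratic space of dimension `2c` and type `ε` has a unipotent isometry with a single Jordan
block. -/
def QJ (F : Type u) [Field F] [Fintype F] (ε : Bool) (c : ℕ) : Prop :=
  ∃ (V : Type u) (_ : AddCommGroup V) (_ : Module F V) (_ : FiniteDimensional F V)
    (Q : QuadraticForm F V) (T : End F V),
    IsTyp Q c ε ∧ (∀ v, Q (T v) = Q v) ∧ (T - 1) ^ (2 * c) = 0 ∧ (T - 1) ^ (2 * c - 1) ≠ 0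

/-- the orthogonal sum of a hyperbolic plane and `Q` : `((α, β), x) ↦ α β + Q x`. -/
noncomputable def hypQ {F V : Type*} [Field F] [AddCommGroup V] [Module F V] (Q : QuadraticForm F V) :
    QuadraticForm F ((F × F) × V) :=
  (QuadraticMap.linMulLin (LinearMap.fst F F F) (LinearMap.snd F F F)).prod Q

theorem hypQ_apply {F V : Type*} [Field F] [AddCommGroup V] [Module F V] (Q : QuadraticForm F V)
    (α β : F) (x : V) : hypQ Q ((α, β), x) = α * β + Q x := rfl

/-- the orders of maximal tori of `Sp_{2n}(q)`. -/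
inductive InL (q : ℕ) : ℕ → ℕ → Prop
  | zero : InL q 0 1
  | minus {n L e : ℕ} (he : 1 ≤ e) (h : InL q n L) : InL q (n + e) (Nat.lcm (q ^ e - 1) L)
  | plus {n L e : ℕ} (he : 1 ≤ e) (h : InL q n L) : InL q (n + e) (Nat.lcm (q ^ e + 1) L)

end Cfsg.Agent.Lib.Helper99.SP8
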