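import Mathlib
import Cfsg.Agent.Lib.Helper99.SP8.Defs
import Cfsg.Agent.Lib.Helper11.SP8PARTS
import Cfsg.Agent.Lib.Helper11.SP8JORD
import Cfsg.Agent.Lib.Helper11.SP8NUM
import Cfsg.Agent.Lib.Helper11.SP8JBASE
import Cfsg.Agent.Lib.Helper11.SP8JSTEP
import Cfsg.Agent.Lib.Helper66.SP8DICH
import Cfsg.Agent.Lib.Helper66.SP8QADD
import Cfsg.Agent.Lib.Helper66.SP8REAL
import Cfsg.Agent.Lib.Helper62.SP8TOP
import Cfsg.Agent.Lib.Helper62.SP8UQ
import Cfsg.Agent.Lib.Helper67.SP8SSREC
import Cfsg.Agent.Lib.Helper99.PGB.TR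
import Cfsg.Agent.Lib.Helper99.PGB.UP
import Cfsg.Agent.Lib.Helper99.SPD.KP
import Cfsg.Agent.Lib.Helper11.PGBEVEN

set_option autoImplicit false

universe u

namespace Cfsg.Agent.Lib.Helper99.SP8

open Module LinearMap QuadraticMap Cfsg.Agent.Lib.Helper48 Cfsg.Agent.Lib.Helper17
  Cfsg.Agent.Lib.Helper99.PGB Cfsg.Agent.Lib.Helper99.SPD Cfsg.Agent.Lib.Helper11.PGB
  Cfsg.Agent.Lib.Helper11.SP8 Cfsg.Agent.Lib.Helper66.SP8 Cfsg.Agent.Lib.Helper62.SP8
  Cfsg.Agent.Lib.Helper67.SP8

theorem QJ_all (F : Type u) [Field F] [Fintype F] [CharP F 2] (ε : Bool) (c : ℕ) (hc : 1 ≤ c) :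
    QJ F ε c := by
  induction c, hc using Nat.le_induction with
  | base => exact QJ_one F ε
  | succ c hc ih => exact QJ_succ hc ih

/-- a unipotent isometry of large order in both types -/
theorem QT_J (F : Type u) [Field F] [Fintype F] [CharP F 2] (ε : Bool) (c : ℕ) (hc : 1 ≤ c)
    (hc4 : c ≤ 4) : ∃ b, 2 * c ≤ 2 ^ b ∧ QT F ε c (2 ^ b) := by
  have h := QJ_all F ε c hc
  interval_cases c
  · exact ⟨1, by norm_num, QT_of_QJ h (by norm_num) (by norm_num)⟩
  · exact ⟨2, by norm_num, QT_of_QJ h (by norm_num) (by norm_num)⟩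
  · exact ⟨3, by norm_num, QT_of_QJ h (by norm_num) (by norm_num)⟩
  · exact ⟨3, by norm_num, QT_of_QJ h (by norm_num) (by norm_num)⟩

/-- opposite types add up to minus type -/
theorem QT_combine {F : Type u} [Field F] [Fintype F] {ε : Bool} {c₁ c₂ K₁ K₂ : ℕ}
    (h₁ : QT F ε c₁ K₁) (h₂ : QT F (!ε) c₂ K₂) : QT F false (c₁ + c₂) (Nat.lcm K₁ K₂) := by
  cases ε with
  | true => exact QT_add h₁ h₂
  | false =>
    have := QT_add h₂ h₁
    rwa [add_comm, Nat.lcm_comm] at this

/-- an alternating space with a fixed point free isometry gives a quadratic space -/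
theorem QT_of_fpf {F : Type u} [Field F] [Fintype F] [CharP F 2] {V : Type u} [AddCommGroup V]
    [Module F V] [FiniteDimensional F V] (B : LinearMap.BilinForm F V) (halt : ∀ v, B v v = 0)
    (hnd : ∀ x, (∀ y, B x y = 0) → x = 0) {c K : ℕ} (hdim : finrank F V = 2 * c) (T : End F V)
    (hT : IsoB B T) (hfix : ∀ v, T v = v → v = 0) (hord : ∀ j, T ^ j = 1 ↔ K ∣ j) :
    ∃ ε, QT F ε c K := by
  obtain ⟨Q, hQ, hQT⟩ := exists_quad B halt hnd T hT hfix
  have hnd' : ∀ x, (∀ y, polar Q x y = 0) → x = 0 := by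
    intro x hx
    apply hnd
    intro y
    rw [← hQ]
    exact hx y
  rcases isTyp_dich Q c hdim hnd' with h | h
  · exact ⟨true, V, inferInstance, inferInstance, inferInstance, Q, T, h, hQT, hord⟩
  · exact ⟨false, V, inferInstance, inferInstance, inferInstance, Q, T, h, hQT, hord⟩

theorem sub_one_pow_two_pow {F V : Type*} [Field F] [CharP F 2] [AddCommGroup V] [Module F V]
    [Nontrivial V] (u : End F V) (b : ℕ) : (u - 1) ^ (2 ^ b) = u ^ (2 ^ b) - 1 := by
  have : CharP (End F V) 2 :=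
    charP_of_injective_algebraMap (FaithfulSMul.algebraMap_injective F (End F V)) 2
  rw [sub_pow_char_pow_of_commute 2 b (Commute.one_right u), one_pow]

theorem odd_cast_ne_zero {F : Type*} [Field F] [CharP F 2] {m : ℕ} (hm : Odd m) : (m : F) ≠ 0 := by
  obtain ⟨k, rfl⟩ := hm
  have h2 : (2 : F) = 0 := by exact_mod_cast CharP.cast_eq_zero F 2
  push_cast
  rw [h2, zero_mul, zero_add]
  exact one_ne_zero

/-- a nilpotent operator leaving `Z` invariant is killed on `Z` by the power `finrank Z`. -/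
theorem nil_on_sub {F V : Type u} [Field F] [AddCommGroup V] [Module F V] [FiniteDimensional F V]
    (N : End F V) {k : ℕ} (hN : N ^ k = 0) (Z : Submodule F V) (hZ : ∀ z ∈ Z, N z ∈ Z) {d : ℕ}
    (hd : finrank F Z ≤ d) : ∀ z ∈ Z, (N ^ d) z = 0 := by
  intro z hz
  have h1 : (N.restrict hZ : End F Z) ^ k = 0 := by
    apply LinearMap.ext
    intro y
    apply Subtype.ext
    rw [restrict_pow_apply, hN]
    rfl
  have h2 : (⟨z, hz⟩ : Z) ∈ ker ((N.restrict hZ : End F Z) ^ finrank F Z) := by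
    apply Module.End.ker_pow_le_ker_pow_finrank _ k
    rw [h1]
    simp
  have h3 : (N ^ finrank F Z) z = 0 := by
    have := congrArg Subtype.val (mem_ker.1 h2)
    rw [restrict_pow_apply] at this
    exact this
  obtain ⟨r, rfl⟩ := Nat.exists_eq_add_of_le hd
  rw [add_comm, pow_add, Module.End.mul_apply, h3, map_zero]

section main
variable {F : Type u} [Field F] [Fintype F] [CharP F 2] {V : Type u} [AddCommGroup V] [Module F V]
  [FiniteDimensional F V]

/-- the semisimple fixed point free case -/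
theorem main_ss (B : LinearMap.BilinForm F V) (halt : ∀ v, B v v = 0)
    (hnd : ∀ x, (∀ y, B x y = 0) → x = 0) (hdim : finrank F V = 8) (T : End F V) (hT : IsoB B T)
    {K : ℕ} (hKodd : Odd K) (hord : ∀ j, T ^ j = 1 ↔ K ∣ j) :
    ∃ K', K ∣ K' ∧ 0 < K' ∧ QT F false 4 K' := by
  obtain ⟨L, hL, hTL⟩ := ss_list (F := F) 4 V B halt hnd hdim T hT K (odd_cast_ne_zero hKodd)
    ((hord K).2 dvd_rfl)
  have hKL : K ∣ L := (hord L).1 hTL
  have hq : 2 ≤ Fintype.card F := Fintype.one_lt_card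
  obtain ⟨r1, r2, r3, r4⟩ := real_list F
  have hq3 : 8 ≤ Fintype.card F ^ 3 := by
    calc 8 = 2 ^ 3 := by norm_num
      _ ≤ _ := Nat.pow_le_pow_left hq 3
  have hq4 : 16 ≤ Fintype.card F ^ 4 := by
    calc 16 = 2 ^ 4 := by norm_num
      _ ≤ _ := Nat.pow_le_pow_left hq 4
  rcases InL_four hq hL with h | h | h | h
  · exact ⟨_, hKL.trans h, by positivity, r1⟩
  · exact ⟨_, hKL.trans h, by omega, r2⟩
  · exact ⟨_, hKL.trans h, Nat.mul_pos (by omega) (by omega), r3⟩
  · exact ⟨_, hKL.trans h, Nat.mul_pos (by omega) (by omega), r4⟩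

theorem main_abs (B : LinearMap.BilinForm F V) (halt : ∀ v, B v v = 0)
    (hnd : ∀ x, (∀ y, B x y = 0) → x = 0) (hdim : finrank F V = 8) (T : End F V) (hT : IsoB B T)
    {K : ℕ} (hK : 0 < K) (hord : ∀ j, T ^ j = 1 ↔ K ∣ j) :
    ∃ K', K ∣ K' ∧ 0 < K' ∧ QT F false 4 K' := by
  have : Nontrivial V := Module.nontrivial_of_finrank_pos (R := F) (by omega)
  obtain ⟨a, m, x, y, hm, hKam, hsord, huord, hsu⟩ := parts T hK hord
  obtain ⟨s, hs_def⟩ : ∃ s, s = T ^ x := ⟨_, rfl⟩
  obtain ⟨u, hu_def⟩ : ∃ u, u = T ^ y := ⟨_, rfl⟩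
  rw [← hs_def, ← hu_def] at hsu
  rw [← hs_def] at hsord
  rw [← hu_def] at huord
  have hs : IsoB B s := hs_def ▸ isoB_pow hT x
  have hu : IsoB B u := hu_def ▸ isoB_pow hT y
  have hmF := odd_cast_ne_zero (F := F) hm
  have hsm : s ^ m = 1 := (hsord m).2 dvd_rfl
  have hua : u ^ 2 ^ a = 1 := (huord _).2 dvd_rfl
  have hNa : (u - 1) ^ 2 ^ a = 0 := by rw [sub_one_pow_two_pow, hua, sub_self]
  have hcsT : Commute s T := by rw [hs_def]; exact (Commute.refl T).pow_left x
  have hcsu : Commute s u := by rw [hs_def, hu_def]; exact (Commute.refl T).pow_pow x y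
  have hcompl := isCompl_ker_range s hmF hsm
  have hcop : Nat.Coprime (2 ^ a) m := Nat.Coprime.pow_left a (Nat.coprime_two_left.2 hm)
  by_cases hZ0 : finrank F (ker (s - 1)) = 0
  · -- `s` is fixed point free
    have hfix : ∀ v, s v = v → v = 0 := by
      intro v hv
      have h1 : v ∈ ker (s - 1) := mem_ker_sub_one.2 hv
      rw [Submodule.finrank_eq_zero.1 hZ0] at h1
      exact (Submodule.mem_bot F).1 h1
    by_cases hu1 : u = 1
    · rw [hu1, mul_one] at hsu
      obtain ⟨K', h1, h2, h3⟩ := main_ss B halt hnd hdim s hs hm hsord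
      refine ⟨K', ?_, h2, h3⟩
      apply Dvd.dvd.trans _ h1
      rw [← hord, ← hsu, hsm]
    · have hex : ∃ k, (u - 1) ^ k = 0 := ⟨_, hNa⟩
      classical
      have hk0 : Nat.find hex ≠ 0 := by
        intro h0
        have := Nat.find_spec hex
        rw [h0, pow_zero] at this
        exact one_ne_zero this
      have hk1 : Nat.find hex ≠ 1 := by
        intro h0
        have := Nat.find_spec hex
        rw [h0, pow_one, sub_eq_zero] at this
        exact hu1 this
      obtain ⟨j, hj⟩ : ∃ j, Nat.find hex = j + 1 := ⟨Nat.find hex - 1, by omega⟩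
      have hj1 : 1 ≤ j := by omega
      have hN : (u - 1) ^ j ≠ 0 := Nat.find_min hex (by omega)
      have hN' : (u - 1) ^ (j + 1) = 0 := by rw [← hj]; exact Nat.find_spec hex
      obtain ⟨d, X, _, _, _, B', s', hdj, hXdim, halt', hnd', hs', hs'ord, hfix'⟩ :=
        top_reduce B halt hnd (n := 4) hdim s u hs hu hcsu hm hsord hfix hj1 hN hN'
      obtain ⟨ε, hQX⟩ := QT_of_fpf B' halt' hnd' hXdim s' hs' hfix' hs'ord
      obtain ⟨b, hb, hJ⟩ := QT_J F (!ε) (4 - d) (by omega) (by omega)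
      have hQ := QT_combine hQX hJ
      rw [show d + (4 - d) = 4 by omega] at hQ
      refine ⟨_, ?_, Nat.lcm_pos hm.pos (by positivity), hQ⟩
      rw [hKam]
      apply hcop.mul_dvd_of_dvd_of_dvd
      · apply Dvd.dvd.trans _ (Nat.dvd_lcm_right _ _)
        rw [← huord]
        have h0 : (u - 1) ^ 2 ^ b = 0 := pow_eq_zero_of_le (by omega) hN'
        rw [sub_one_pow_two_pow, sub_eq_zero] at h0
        exact h0
      · exact Nat.dvd_lcm_left _ _
  · -- `s` has fixed points
    have hWT : ∀ w ∈ range (s - 1), T w ∈ range (s - 1) := by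
      rintro _ ⟨v, rfl⟩
      refine ⟨T v, ?_⟩
      have h1 : (s - 1) * T = T * (s - 1) := by
        rw [sub_mul, mul_sub, hcsT.eq, one_mul, mul_one]
      exact congrArg (fun f : End F V => f v) h1
    have hort : ∀ w ∈ range (s - 1), ∀ z ∈ ker (s - 1), B w z = 0 := by
      rintro _ ⟨v, rfl⟩ z hz
      have hz' : s z = z := mem_ker_sub_one.1 hz
      rw [LinearMap.sub_apply, Module.End.one_apply, map_sub, LinearMap.sub_apply]
      nth_rewrite 1 [← hz']
      rw [hs, sub_self]
    have hndW : ∀ x ∈ range (s - 1), (∀ y ∈ range (s - 1), B x y = 0) → x = 0 := by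
      intro x hx h
      apply hnd
      intro v
      obtain ⟨z, hz, w, hw, rfl⟩ := exists_dec hcompl v
      rw [map_add, hort x hx z hz, h w hw, add_zero]
    have hKW : ∀ j, (T.restrict hWT : End F (range (s - 1))) ^ j = 1 ↔
        orderOf (T.restrict hWT : End F (range (s - 1))) ∣ j :=
      fun j => (orderOf_dvd_iff_pow_eq_one).symm
    have hAR : AR F (finrank F (range (s - 1))) (orderOf (T.restrict hWT : End F (range (s - 1)))) :=
      res_AR B _ halt hndW T hT hWT (fun j => by rw [← restrict_pow_eq_one_iff T _ hWT, hKW])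
    obtain ⟨n', hn'⟩ := AR_even hAR
    have hsum := Submodule.finrank_add_eq_of_isCompl hcompl
    rw [hdim] at hsum
    obtain ⟨ε, hQW⟩ := QT_of_fpf (B.restrict (range (s - 1))) (fun v => halt _)
      (fun x hx => Subtype.ext (hndW x.1 x.2 (fun y hy => hx ⟨y, hy⟩))) (c := n') (by omega)
      (T.restrict hWT) (fun x y => hT _ _)
      (by
        intro v hv
        have h1 : T (v : V) = v := congrArg Subtype.val hv
        have h2 : s (v : V) = v := by
          have h2' := pow_apply_fixed h1 x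
          rwa [← hs_def] at h2'
        have h3 : (v : V) ∈ ker (s - 1) ⊓ range (s - 1) := ⟨mem_ker_sub_one.2 h2, v.2⟩
        rw [hcompl.inf_eq_bot] at h3
        exact Subtype.ext ((Submodule.mem_bot F).1 h3)) hKW
    obtain ⟨b, hb, hJ⟩ := QT_J F (!ε) (4 - n') (by omega) (by omega)
    have hQ := QT_combine hQW hJ
    rw [show n' + (4 - n') = 4 by omega] at hQ
    have hpos : 0 < orderOf (T.restrict hWT : End F (range (s - 1))) := by
      rw [orderOf_pos_iff, isOfFinOrder_iff_pow_eq_one]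
      refine ⟨K, hK, ?_⟩
      rw [restrict_pow_eq_one_iff]
      intro w _
      rw [(hord K).2 dvd_rfl, Module.End.one_apply]
    refine ⟨_, ?_, Nat.lcm_pos hpos (by positivity), hQ⟩
    rw [← hord]
    apply LinearMap.ext
    intro v
    obtain ⟨z, hz, w, hw, rfl⟩ := exists_dec hcompl v
    rw [map_add, Module.End.one_apply]
    congr 1
    · -- on the fixed space `T` is unipotent
      have hz' : s z = z := mem_ker_sub_one.1 hz
      have hZu : ∀ z ∈ ker (s - 1), (u - 1) z ∈ ker (s - 1) := by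
        intro z hz
        exact ker_inv (hcsu.sub_right (Commute.one_right s)) hz
      have h1 : ((u - 1) ^ 2 ^ b : End F V) z = 0 := nil_on_sub (u - 1) hNa _ hZu (by omega) z hz
      rw [sub_one_pow_two_pow, LinearMap.sub_apply, Module.End.one_apply, sub_eq_zero] at h1
      have h2 : (T ^ 2 ^ b : End F V) z = z := by
        rw [← hsu, hcsu.mul_pow, Module.End.mul_apply, h1]
        exact pow_apply_fixed hz' _
      obtain ⟨r, hr⟩ := Nat.dvd_lcm_right (orderOf (T.restrict hWT : End F (range (s - 1)))) (2 ^ b)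
      rw [hr, pow_mul]
      exact pow_apply_fixed h2 r
    · exact (restrict_pow_eq_one_iff T _ hWT _).1 ((hKW _).2 (Nat.dvd_lcm_left _ _)) w hw

end main

end Cfsg.Agent.Lib.Helper99.SP8
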